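import Groth.Agent.GalTw97.FreeQuot
import Groth.Prelude.Def_GalTw2
import Groth.Prelude.Def_RelProj
import Groth.Agent.Amp73.Avoid
import Groth.Agent.Amp73.Local

/-! Existence of forms: Galois descent for quasi-projective schemes. -/

set_option autoImplicit false
set_option backward.isDefEq.respectTransparency false
set_option backward.isDefEq.respectTransparency.types false
universe u

open CategoryTheory CategoryTheory.Limits AlgebraicGeometry

namespace Groth.Agent.GalTw97

open GalTw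

variable {k : Type u} [Field k] {K : Type u} [Field K] [Algebra k K]

theorem exists_affine_finite {X : Over (Spec (CommRingCat.of k))} (hX : RelProj.IsQuasiProjective X.hom)
    (Z : Set X.left) (hZ : Z.Finite) : ∃ U : X.left.Opens, IsAffineOpen U ∧ Z ⊆ U := by
  obtain ⟨-, hqc, L, hL⟩ := hX
  haveI := hqc
  obtain ⟨G, -, hG, -, hGa⟩ := Amp73.exists_affine_genSet_of_finite ((Amp73.isRelAmple_iff_isAmple X.hom).1 hL) hZ
    (U := ⊤) (fun _ _ => trivial)
  exact ⟨_, hGa, hG⟩

theorem specMap_free {W : Scheme.{u}} (q : W ⟶ Spec (CommRingCat.of K)) {g : K ≃ₐ[k] K} {f : W ⟶ W}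
    (hf : f ≫ q = q ≫ specMap K g⁻¹) {Ω : Type u} [Field Ω] (ξ : Spec (CommRingCat.of Ω) ⟶ W)
    (h : ξ ≫ f = ξ) : g = 1 := by
  have h2 : (ξ ≫ q) ≫ specMap K g⁻¹ = ξ ≫ q := by rw [Category.assoc, ← hf, ← Category.assoc, h]
  obtain ⟨φ, hφ⟩ := Spec.map_surjective (ξ ≫ q)
  rw [← hφ, ← Spec.map_comp] at h2
  have h3 := Spec.map_injective h2
  have : g⁻¹ = 1 := AlgEquiv.ext fun x => φ.hom.injective (congrArg (fun m => m.hom x) h3)
  exact inv_eq_one.1 this

/-- The Galois action on a base change, as a left action. -/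
noncomputable def galRho (Z : Over (Spec (CommRingCat.of k))) : (K ≃ₐ[k] K) →* Aut (bcK K Z).left where
  toFun g := galIso K g⁻¹ Z
  map_one' := Iso.ext ((congrArg (fun s => galMap K s Z) inv_one).trans (galMap_one K Z))
  map_mul' g h := Iso.ext ((congrArg (fun s => galMap K s Z) (mul_inv_rev g h)).trans (galMap_mul K h⁻¹ g⁻¹ Z).symm)

theorem isFree_galRho (Z : Over (Spec (CommRingCat.of k))) : Quot84.IsFree (galRho (K := K) Z) :=
  fun Ω _ _ ξ g h => specMap_free (pullback.snd Z.hom (SGA7.pt (K := k) K).hom) (galMap_snd K g⁻¹ Z) ξ h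

variable [FiniteDimensional k K] [IsGalois k K]

theorem isQuot_galRho (Z : Over (Spec (CommRingCat.of k))) :
    SGA1.IsQuot (galRho (K := K) Z) (pullback.fst Z.hom (SGA7.pt (K := k) K).hom) := by
  let ρ₀ : (K ≃ₐ[k] K) →* Aut (Spec (CommRingCat.of K)) :=
  { toFun := fun g => ⟨specMap K g⁻¹, specMap K g,
      by rw [← specMap_mul, inv_mul_cancel, specMap_one], by rw [← specMap_mul, mul_inv_cancel, specMap_one]⟩
    map_one' := Iso.ext ((congrArg (specMap K) inv_one).trans (specMap_one K))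
    map_mul' := fun g h => Iso.ext ((congrArg (specMap K) (mul_inv_rev g h)).trans (specMap_mul K h⁻¹ g⁻¹)) }
  have h₀ : SGA1.IsQuot ρ₀ (Spec.map (CommRingCat.ofHom (algebraMap k K))) :=
    Quot84.isQuot_Spec _ ρ₀ (fun g => CommRingCat.ofHom ((g⁻¹ : K ≃ₐ[k] K) : K →+* K))
      (fun g => CommRingCat.hom_ext (RingHom.ext fun x => (g⁻¹ : K ≃ₐ[k] K).commutes x))
      (algebraMap k K).injective
      (fun a ha => (IsGalois.mem_range_algebraMap_iff_fixed a).2 fun σ => by
        have h := ha σ⁻¹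
        rwa [inv_inv] at h)
      rfl
  exact Quot84.flat_baseChange h₀ Z.hom (pullback.snd _ _) (pullback.fst _ _)
    (IsPullback.of_hasPullback Z.hom (SGA7.pt (K := k) K).hom).flip (galRho Z)
    (fun g => galMap_snd K g⁻¹ Z) (fun g => galMap_fst K g⁻¹ Z)

omit [FiniteDimensional k K] [IsGalois k K] in
theorem aut_left_snd {X : Over (Spec (CommRingCat.of k))} (e : Aut (bcK K X)) :
    e.inv.left ≫ pullback.snd X.hom (SGA7.pt (K := k) K).hom = pullback.snd _ _ := Over.w e.inv

/-- Every cocycle is the cocycle of a form, as soon as orbits lie in affine open sets. -/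
theorem exists_twist (X : Over (Spec (CommRingCat.of k)))
    (hX : ∀ Z : Set X.left, Z.Finite → ∃ U : X.left.Opens, IsAffineOpen U ∧ Z ⊆ U)
    (a : GpH1.OneCocycle (K ≃ₐ[k] K) (Aut (bcK K X))) :
    ∃ (Y : Over (Spec (CommRingCat.of k))) (φ : bcK K Y ≅ bcK K X), (∀ σ, cocycle φ σ = a σ) ∧
      IsAffineHom (φ.inv.left ≫ pullback.fst Y.hom (SGA7.pt (K := k) K).hom) ∧
      Surjective (φ.inv.left ≫ pullback.fst Y.hom (SGA7.pt (K := k) K).hom) := by
  let W := (bcK K X).left
  let act : (K ≃ₐ[k] K) → (W ⟶ W) := fun σ => (a σ).inv.left ≫ galMap K σ X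
  have hsnd : ∀ σ, act σ ≫ pullback.snd X.hom (SGA7.pt (K := k) K).hom = pullback.snd _ _ ≫ specMap K σ :=
    fun σ => by simp only [act, Category.assoc, galMap_snd]; rw [reassoc_of% aut_left_snd (a σ)]
  have hmul : ∀ σ τ, act σ ≫ act τ = act (σ * τ) := fun σ τ => by
    have h := congrArg (fun e : Aut (bcK K X) => e.inv.left) (a.2 σ τ)
    have hd : (a σ * σ • a τ).inv.left = (a σ).inv.left ≫ galMap K σ X ≫ (a τ).inv.left ≫ galMap K σ⁻¹ X := rfl
    simp only [hd] at h
    simp only [act, Category.assoc]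
    rw [h]
    simp only [Category.assoc, galMap_mul, inv_mul_cancel_left]
  have hone : act 1 = 𝟙 W := by
    simp only [act, oneCocycle_one, galMap_one, Category.comp_id]
    rfl
  let ρ : (K ≃ₐ[k] K) →* Aut W :=
  { toFun := fun g => ⟨act g⁻¹, act g, by rw [hmul, inv_mul_cancel, hone], by rw [hmul, mul_inv_cancel, hone]⟩
    map_one' := Iso.ext ((congrArg act inv_one).trans hone)
    map_mul' := fun g h => Iso.ext ((congrArg act (mul_inv_rev g h)).trans (hmul h⁻¹ g⁻¹).symm) }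
  haveI : IsAffineHom (SGA7.pt (K := k) K).hom :=
    inferInstanceAs (IsAffineHom (Spec.map (CommRingCat.ofHom (algebraMap k K))))
  obtain ⟨Y, π, hπ⟩ := Quot84.exists_quot ρ fun x => by
    obtain ⟨U, hU, hsub⟩ := hX (Set.range fun g => pullback.fst X.hom (SGA7.pt (K := k) K).hom ((ρ g).hom x))
      (Set.finite_range _)
    haveI : IsAffineHom (pullback.fst X.hom (SGA7.pt (K := k) K).hom) := MorphismProperty.pullback_fst (P := @IsAffineHom) _ _ inferInstance
    exact ⟨_, hU.preimage (pullback.fst X.hom (SGA7.pt (K := k) K).hom), fun g => hsub ⟨g, rfl⟩⟩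
  obtain ⟨s, hs, -⟩ := Quot84.existsUnique_desc hπ (pullback.snd X.hom (SGA7.pt (K := k) K).hom ≫ (SGA7.pt (K := k) K).hom)
    (fun g => by
      show act g⁻¹ ≫ _ ≫ _ = _
      rw [reassoc_of% hsnd, specMap_comp_pt])
  let Y' : Over (Spec (CommRingCat.of k)) := Over.mk s
  let ψ : W ⟶ (bcK K Y').left := pullback.lift π (pullback.snd X.hom (SGA7.pt (K := k) K).hom) hs
  have he : ∀ g, (ρ g).hom ≫ ψ = ψ ≫ galMap K g⁻¹ Y' := fun g => by
    apply pullback.hom_ext
    · rw [Category.assoc, Category.assoc, galMap_fst, pullback.lift_fst]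
      exact hπ.inv g
    · rw [Category.assoc, Category.assoc, galMap_snd, pullback.lift_snd, pullback.lift_snd_assoc]
      exact hsnd g⁻¹
  haveI : IsIso ψ := isIso_of_equivariant hπ
    (fun Ω _ _ ξ g h => specMap_free _ (hsnd g⁻¹) ξ h) (isQuot_galRho Y') (isFree_galRho Y') ψ
    (pullback.lift_fst _ _ _) he
  let φ : bcK K Y' ≅ bcK K X := (Over.isoMk (asIso ψ) (pullback.lift_snd _ _ _)).symm
  have hφ : φ.inv.left = ψ := rfl
  refine ⟨Y', φ, fun σ => ?_, ?_, ?_⟩
  · apply Iso.symm_eq_iff.1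
    ext1
    ext1
    show φ.inv.left ≫ galMap K σ Y' ≫ φ.hom.left ≫ galMap K σ⁻¹ X = (a σ).inv.left
    have h := he σ⁻¹
    rw [inv_inv] at h
    rw [hφ, ← reassoc_of% h]
    show act σ⁻¹⁻¹ ≫ φ.inv.left ≫ φ.hom.left ≫ galMap K σ⁻¹ X = _
    rw [inv_inv]
    simp [act]
  · rw [hφ, show ψ ≫ pullback.fst Y'.hom (SGA7.pt (K := k) K).hom = π from pullback.lift_fst _ _ _]
    exact hπ.affine
  · rw [hφ, show ψ ≫ pullback.fst Y'.hom (SGA7.pt (K := k) K).hom = π from pullback.lift_fst _ _ _]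
    exact ⟨Quot84.surjective hπ⟩

end Groth.Agent.GalTw97
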