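import Groth.Agent.Quot84.Exists
import Groth.Agent.Quot84.FreeScheme
import Groth.Agent.Quot84.FlatBC
import Mathlib.AlgebraicGeometry.Morphisms.FlatDescent

/-! Equivariant morphisms between free quotients are isomorphisms. -/

set_option autoImplicit false
universe u

open CategoryTheory CategoryTheory.Limits AlgebraicGeometry

namespace Groth.Agent.GalTw97

theorem isIso_of_equivariant {X X' Y : Scheme.{u}} {G : Type u} [Group G] [Finite G] {ρ : G →* Aut X}
    {ρ' : G →* Aut X'} {p : X ⟶ Y} {p' : X' ⟶ Y} (hp : SGA1.IsQuot ρ p) (hf : Quot84.IsFree ρ)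
    (hp' : SGA1.IsQuot ρ' p') (hf' : Quot84.IsFree ρ') (ψ : X ⟶ X') (hψ : ψ ≫ p' = p)
    (he : ∀ g, (ρ g).hom ≫ ψ = ψ ≫ (ρ' g).hom) : IsIso ψ := by
  haveI := Quot84.flat_of_free hp hf
  let Q := pullback p p'
  let r : G → (Q ⟶ Q) := fun g => pullback.lift (pullback.fst p p')
    (pullback.snd p p' ≫ (ρ' g).hom) (by rw [Category.assoc, hp'.inv g, pullback.condition])
  have hr : ∀ g h, r (g * h) = r h ≫ r g := fun g h => by
    apply pullback.hom_ext <;>
      simp only [r, Quot84.hom_mul, Category.assoc, pullback.lift_fst, pullback.lift_snd,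
        pullback.lift_snd_assoc]
  have h1 : r 1 = 𝟙 _ := by
    apply pullback.hom_ext <;>
      simp only [r, Quot84.hom_one, Category.id_comp, Category.comp_id, pullback.lift_fst, pullback.lift_snd]
  let ρQ : G →* Aut Q :=
  { toFun := fun g => ⟨r g, r g⁻¹, by rw [← hr, inv_mul_cancel, h1], by rw [← hr, mul_inv_cancel, h1]⟩
    map_one' := Iso.ext h1
    map_mul' := fun g h => Iso.ext (hr g h) }
  have hρ : ∀ g, (ρQ g).hom ≫ pullback.snd p p' = pullback.snd p p' ≫ (ρ' g).hom := fun g => pullback.lift_snd _ _ _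
  have hq : SGA1.IsQuot ρQ (pullback.fst p p') :=
    Quot84.flat_baseChange hp' p (pullback.snd p p') (pullback.fst p p')
      (IsPullback.of_hasPullback p p').flip ρQ hρ fun g => pullback.lift_fst _ _ _
  have hfQ : Quot84.IsFree ρQ := fun K _ _ ξ g h => hf' K (ξ ≫ pullback.snd p p') g (by
    rw [Category.assoc, ← hρ, ← Category.assoc, h])
  let s : X ⟶ Q := pullback.lift (𝟙 X) ψ ((Category.id_comp p).trans hψ.symm)
  have h₂ := Quot84.isIso_sigmaDesc_of_section hq hfQ s (pullback.lift_fst _ _ _)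
  have h₁ := Quot84.isIso_torsor hp hf
  let ψ' : pullback p p ⟶ Q := pullback.lift (pullback.fst p p) (pullback.snd p p ≫ ψ)
    (by rw [Category.assoc, hψ, pullback.condition])
  have key : Sigma.desc (fun g : G => pullback.lift (𝟙 X) (ρ g).hom ((Category.id_comp p).trans (hp.inv g).symm)) ≫ ψ' =
      Sigma.desc (fun g : G => s ≫ (ρQ g).hom) := by
    refine Sigma.hom_ext _ _ fun g => ?_
    rw [Sigma.ι_desc_assoc, Sigma.ι_desc]
    apply pullback.hom_ext
    · show (_ ≫ ψ') ≫ _ = (s ≫ r g) ≫ _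
      simp only [ψ', s, r, Category.assoc]
      erw [pullback.lift_fst, pullback.lift_fst, pullback.lift_fst, pullback.lift_fst]
    · show (_ ≫ ψ') ≫ _ = (s ≫ r g) ≫ _
      simp only [ψ', s, r, Category.assoc]
      erw [pullback.lift_snd, pullback.lift_snd_assoc, pullback.lift_snd, pullback.lift_snd_assoc]
      exact he g
  haveI := h₁
  haveI : IsIso ψ' := by
    haveI := h₂
    exact IsIso.of_isIso_fac_left key
  have sq : IsPullback ψ' (pullback.snd p p) (pullback.snd p p') ψ := by
    refine IsPullback.of_right (h₁₂ := pullback.fst p p') (v₁₃ := p) (h₂₂ := p') ?_ (pullback.lift_snd _ _ _)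
      (IsPullback.of_hasPullback p p')
    rw [pullback.lift_fst, hψ]
    exact IsPullback.of_hasPullback p p
  haveI := hp.affine
  haveI : Surjective p := ⟨Quot84.surjective hp⟩
  have hQ : (@Surjective ⊓ @Flat ⊓ @QuasiCompact : MorphismProperty Scheme.{u}) (pullback.snd p p') :=
    ⟨⟨MorphismProperty.pullback_snd (P := @Surjective) _ _ ‹_›, MorphismProperty.pullback_snd (P := @Flat) _ _ ‹_›⟩,
      MorphismProperty.pullback_snd (P := @QuasiCompact) _ _ inferInstance⟩
  exact MorphismProperty.of_isPullback_of_descendsAlong (P := MorphismProperty.isomorphisms Scheme.{u})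
    (Q := @Surjective ⊓ @Flat ⊓ @QuasiCompact) sq hQ ‹IsIso ψ'›

end Groth.Agent.GalTw97
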